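import Groth.Agent.H1Triv.Basic
import Groth.Agent.InvGen.Basic
import Groth.Agent.CohFinite.Tensor
import Groth.Agent.CurveRR.Deg

/-!
Multiplication by sections generating an invertible module is surjective on global sections, given the
vanishing of `H¹` one step below.
-/

set_option autoImplicit false
set_option backward.isDefEq.respectTransparency false
set_option backward.isDefEq.respectTransparency.types false
set_option linter.style.haveILetI false
set_option linter.unusedSectionVars false

universe u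

open CategoryTheory CategoryTheory.Limits AlgebraicGeometry TopologicalSpace
open Groth.Agent.QC (res res_res res_smul app_res res_self)
open TMul (tm IsGen)

noncomputable section

namespace Groth.Agent.NormGen

variable {X : Scheme.{u}}

/-- The bilinear maps `(m, r) ↦ r • (m ⊗ s)`. -/
def mulBil (M : X.Modules) {L : X.Modules} (s : Γ(L, ⊤)) (U : X.Opens) :
    Γ(M, U) →ₗ[Γ(X, U)] Γ(Coh.structureModule X, U) →ₗ[Γ(X, U)] Γ(CohB1.tensorMod M L, U) :=
  LinearMap.mk₂ Γ(X, U) (fun m r => (show Γ(X, U) from r) • tm m (res L le_top s))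
    (fun a b r => by rw [TMul.tm_add, smul_add])
    (fun c a r => by rw [TMul.smul_tm, smul_comm])
    (fun a r r' => add_smul _ _ _)
    (fun c a r => mul_smul _ _ _)

theorem mulBil_res (M : X.Modules) {L : X.Modules} (s : Γ(L, ⊤)) {V U : X.Opens} (h : V ≤ U) (m : Γ(M, U))
    (r : Γ(Coh.structureModule X, U)) :
    res (CohB1.tensorMod M L) h (mulBil M s U m r) = mulBil M s V (res M h m) (res (Coh.structureModule X) h r) := by
  change res _ h ((show Γ(X, U) from r) • tm m (res L le_top s)) = _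
  rw [res_smul, TMul.res_tm, res_res]
  rfl

/-- Multiplication by a section. -/
def mulR (M : X.Modules) {L : X.Modules} (s : Γ(L, ⊤)) : M ⟶ CohB1.tensorMod M L :=
  (SecTwist.unitorR M).inv ≫ TMul.lift (mulBil M s) fun h m r => mulBil_res M s h m r

theorem mulR_app (M : X.Modules) {L : X.Modules} (s : Γ(L, ⊤)) {U : X.Opens} (m : Γ(M, U)) :
    (mulR M s).app U m = tm m (res L le_top s) := by
  have h1 : (SecTwist.unitorR M).hom.app U (tm m (1 : Γ(X, U))) = m :=
    (SecTwist.unitorR_tmul M U m (1 : Γ(X, U))).trans (one_smul _ _)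
  have h2 : (SecTwist.unitorR M).inv.app U m = tm m (1 : Γ(X, U)) := by
    conv_lhs => rw [← h1]
    change ((SecTwist.unitorR M).hom ≫ (SecTwist.unitorR M).inv).app U _ = _
    rw [Iso.hom_inv_id]
    rfl
  change (TMul.lift (mulBil M s) fun h m r => mulBil_res M s h m r).app U ((SecTwist.unitorR M).inv.app U m) = _
  rw [h2]
  exact (TMul.lift_tm (mulBil M s) (fun h m r => mulBil_res M s h m r) m _).trans (one_smul _ _)

/-- Two sections of an invertible module commute after tensoring. -/
theorem tm_swap {N L : X.Modules} (hL : PicF.IsInvertible L) {U : X.Opens} (n : Γ(N, U)) (a b : Γ(L, U)) :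
    tm (tm n a) b = tm (tm n b) a := by
  refine Groth.Agent.QC.section_eq_of_locally fun x hx => ?_
  obtain ⟨V, hV, e, hxV, he⟩ := CohFinite.exists_gen_le hL hx
  refine ⟨V, hV, hxV, ?_⟩
  obtain ⟨c, hc⟩ := (he V le_rfl).2 (res L hV a)
  obtain ⟨d, hd⟩ := (he V le_rfl).2 (res L hV b)
  simp only [res_self] at hc hd
  rw [TMul.res_tm, TMul.res_tm, TMul.res_tm, TMul.res_tm, ← hc, ← hd]
  simp only [TMul.tm_smul, TMul.smul_tm, smul_smul, mul_comm]

variable (A : Type u) [CommRing A] [X.Over (Spec (CommRingCat.of A))]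

theorem biproduct_sum {ι : Type} [Fintype ι] (F : ι → X.Modules) {U : X.Opens} (v : Γ(⨁ F, U)) :
    ∑ j, (biproduct.ι F j).app U ((biproduct.π F j).app U v) = v := by
  let φ : (⨁ F ⟶ ⨁ F) →+ Γ(⨁ F, U) := AddMonoidHom.mk' (fun f => f.app U v) fun a b => rfl
  exact (map_sum φ (fun i => biproduct.π F i ≫ biproduct.ι F i) Finset.univ).symm.trans
    (congrArg φ biproduct.total)

theorem desc_app {ι : Type} [Fintype ι] (F : ι → X.Modules) {P : X.Modules} (f : ∀ j, F j ⟶ P) {U : X.Opens}
    (v : Γ(⨁ F, U)) : (biproduct.desc f).app U v = ∑ j, (f j).app U ((biproduct.π F j).app U v) := by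
  conv_lhs => rw [← biproduct_sum F v]
  rw [map_sum]
  refine Finset.sum_congr rfl fun j _ => ?_
  change (biproduct.ι F j ≫ biproduct.desc f).app U _ = _
  rw [biproduct.ι_desc]

variable [IsNoetherian X] (hv : ∀ M : X.Modules, Coh.IsCoh M → Subsingleton (Coh.HH X M 2))
  {N L : X.Modules} (hN : PicF.IsInvertible N) (hL : PicF.IsInvertible L)
  {r : ℕ} (s : Fin r → Γ(L, ⊤)) (hgen : ∀ x : X, ∃ j, x ∈ CohB1.genLocus L (TMul.homOf (s j)))

include A hv hN hL hgen

/-- Every section of `N ⊗ L ⊗ L` is a combination of the generating sections of `L`. -/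
theorem exists_eq_sum (hN1 : Subsingleton (Coh.HH X N 1)) (t : Γ(CohB1.tensorMod (CohB1.tensorMod N L) L, ⊤)) :
    ∃ m : Fin r → Γ(CohB1.tensorMod N L, ⊤), t = ∑ j, tm (m j) (s j) := by
  classical
  let M := CohB1.tensorMod N L
  have hM : PicF.IsInvertible M := TMul.isInvertible_tensorMod hN hL
  let F : Fin r → X.Modules := fun _ => M
  let G : Fin r × Fin r → X.Modules := fun _ => N
  let Φ : ⨁ F ⟶ CohB1.tensorMod M L := biproduct.desc fun j => mulR M (s j)
  let ψ : Fin r × Fin r → (N ⟶ ⨁ F) := fun p =>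
    mulR N (s p.2) ≫ biproduct.ι F p.1 - mulR N (s p.1) ≫ biproduct.ι F p.2
  have hψ : ∀ p, ψ p ≫ Φ = 0 := fun p => by
    simp only [ψ, Φ, Preadditive.sub_comp, Category.assoc, biproduct.ι_desc, sub_eq_zero]
    refine Scheme.Modules.hom_ext _ _ fun U => ?_
    ext n
    change (mulR M (s p.1)).app U ((mulR N (s p.2)).app U n) = (mulR M (s p.2)).app U ((mulR N (s p.1)).app U n)
    rw [mulR_app, mulR_app, mulR_app, mulR_app]
    exact tm_swap hL _ _ _
  let Ψ : ⨁ G ⟶ kernel Φ := kernel.lift Φ (biproduct.desc ψ) (by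
    apply biproduct.hom_ext'
    intro p
    rw [biproduct.ι_desc_assoc, comp_zero]; exact hψ p)
  haveI hΦ : Epi Φ := InvGen.epi_of_locally _ fun U t x hx => by
    obtain ⟨i, hi⟩ := hgen x
    let V := U ⊓ CohB1.genLocus L (TMul.homOf (s i))
    have he : IsGen (res L (le_top : V ≤ ⊤) (s i)) := by
      have := ((ProjMor.isGen_homOf (s i)).res (inf_le_right : V ≤ _))
      rwa [res_res] at this
    obtain ⟨m, hm⟩ := (TMul.tm_bijective (M := M) he V le_rfl).2 (res _ inf_le_left t)
    refine ⟨V, inf_le_left, ⟨hx, hi⟩, (biproduct.ι F i).app V m, ?_⟩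
    change (biproduct.ι F i ≫ Φ).app V m = _
    rw [biproduct.ι_desc, mulR_app, ← hm]
    simp only [res_self]
  haveI hΨ : Epi Ψ := InvGen.epi_of_locally _ fun U w x hx => by
    obtain ⟨i, hi⟩ := hgen x
    let V := U ⊓ CohB1.genLocus L (TMul.homOf (s i))
    have hVU : V ≤ U := inf_le_left
    let e : Γ(L, V) := res L le_top (s i)
    have he : IsGen e := by
      have := ((ProjMor.isGen_homOf (s i)).res (inf_le_right : V ≤ _))
      rwa [res_res] at this
    let v : Γ(⨁ F, V) := (kernel.ι Φ).app V (res _ hVU w)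
    let vj : Fin r → Γ(M, V) := fun j => (biproduct.π F j).app V v
    choose c hc using fun j => (he V le_rfl).2 (res L le_top (s j))
    simp only [res_self] at hc
    choose n hn using fun j => (TMul.tm_bijective (M := N) he V le_rfl).2 (vj j)
    simp only [res_self] at hn
    have hsum : ∑ j, c j • vj j = 0 := by
      refine (TMul.tm_bijective (M := M) he V le_rfl).1 ?_
      simp only [res_self]
      have h0 : Φ.app V v = 0 := by
        change (kernel.ι Φ ≫ Φ).app V _ = 0
        rw [kernel.condition]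
        rfl
      rw [desc_app] at h0
      refine Eq.trans ?_ (h0.trans (TMul.zero_tm e).symm)
      let g : Γ(M, V) →+ Γ(CohB1.tensorMod M L, V) := AddMonoidHom.mk' (fun m => tm m e) fun a b => TMul.tm_add a b e
      refine (map_sum g (fun j => c j • vj j) Finset.univ).trans (Finset.sum_congr rfl fun j _ => ?_)
      change tm (c j • vj j) e = (mulR M (s j)).app V (vj j)
      rw [mulR_app, TMul.smul_tm, ← TMul.tm_smul]
      exact congrArg (tm (vj j)) (hc j)
    refine ⟨V, hVU, ⟨hx, hi⟩, ∑ j, (biproduct.ι G (j, i)).app V (n j), ?_⟩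
    refine Groth.Agent.QC.app_injective_of_mono (kernel.ι Φ) V ?_
    change (Ψ ≫ kernel.ι Φ).app V _ = v
    rw [kernel.lift_ι]
    refine (map_sum _ _ _).trans ?_
    have hterm : ∀ j, (biproduct.desc ψ).app V ((biproduct.ι G (j, i)).app V (n j)) =
        (biproduct.ι F j).app V (vj j) - (biproduct.ι F i).app V (c j • vj j) := fun j => by
      change (biproduct.ι G (j, i) ≫ biproduct.desc ψ).app V (n j) = _
      rw [biproduct.ι_desc]
      change (biproduct.ι F j).app V ((mulR N (s i)).app V (n j)) -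
        (biproduct.ι F i).app V ((mulR N (s j)).app V (n j)) = _
      rw [mulR_app, mulR_app, ← hc j, TMul.tm_smul]
      simp only [e] at hn
      rw [hn j]
    rw [Finset.sum_congr rfl fun j _ => hterm j, Finset.sum_sub_distrib, ← map_sum, hsum, map_zero, sub_zero]
    exact biproduct_sum F v
  have hNc : Coh.IsCoh N := CurveRR.isCoh_of_inv hN
  have hGc : Coh.IsCoh (⨁ G) := Devissage.isCoh_biproduct G fun _ => hNc
  have hFc : Coh.IsCoh (⨁ F) := Devissage.isCoh_biproduct F fun _ => CurveRR.isCoh_of_inv hM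
  have hTc : Coh.IsCoh (CohB1.tensorMod M L) := CurveRR.isCoh_of_inv (TMul.isInvertible_tensorMod hM hL)
  have hK1 : Subsingleton (Coh.HH X (kernel Φ) 1) :=
    H1Triv.subsingleton_h1_of_epi A hv hGc (QC.isCoh_kernel hFc hTc.1 Φ) Ψ
      (CohQC.subsingleton_hh_biproduct G 1 fun _ => hN1)
  obtain ⟨y, hy⟩ := H1Triv.surjective_of_h_next A (W7Proj.shortExact_kernel Φ) 0 hK1 (W7Cech.gsH0 A _ t)
  obtain ⟨v, rfl⟩ := (W7Cech.gsH0 A (⨁ F)).surjective y
  have hv' : Φ.app ⊤ v = t := (W7Cech.gsH0 A _).injective ((W7Cech.gsH0_natural A Φ v).trans hy)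
  refine ⟨fun j => (biproduct.π F j).app ⊤ v, hv'.symm.trans ((desc_app F _ v).trans ?_)⟩
  refine Finset.sum_congr rfl fun j _ => ?_
  exact (mulR_app M (s j) _).trans (congrArg _ (res_self L le_rfl (s j)))

end Groth.Agent.NormGen
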