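import Groth.Agent.NormGen.VAmple
import Groth.Agent.NormGen.Mult
import Groth.Agent.H1Triv.Rel
import Groth.Agent.CurveRR.Ample
import Groth.Agent.S1664

/-!
`H¹(O) = 0` and fibre dimension `≤ 1`: ample modules are normally generated and very ample.
-/

set_option autoImplicit false
set_option backward.isDefEq.respectTransparency false
set_option backward.isDefEq.respectTransparency.types false
set_option linter.style.haveILetI false
set_option linter.unusedSectionVars false

universe u

open CategoryTheory CategoryTheory.Limits AlgebraicGeometry TopologicalSpace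
open Groth.Agent.QC (res resO res_res res_smul res_self app_res)
open TMul (tm IsGen val homOf val_homOf)

noncomputable section

namespace Groth.Agent.NormGen

variable {A : Type u} [CommRing A] {X : Scheme.{u}} [X.Over (Spec (CommRingCat.of A))]

/-- Scalars of the base on global sections. -/
theorem smul_globalSectionsA (M : X.Modules) (a : A) (t : ((CohIII.globalSectionsA A).obj M : Type u)) :
    a • t = ((X ↘ Spec (CommRingCat.of A)).appTop.hom ((Scheme.ΓSpecIso (CommRingCat.of A)).inv.hom a) •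
      (show Γ(M, ⊤) from t) : Γ(M, ⊤)) := rfl

variable [IsNoetherianRing A] [IsProper (X ↘ Spec (CommRingCat.of A))]

/-- Finitely many sections span the global sections over the base. -/
theorem exists_span {M : X.Modules} (hM : Coh.IsCoh M) :
    ∃ (r : ℕ) (s : Fin r → Γ(M, ⊤)), ∀ t : Γ(M, ⊤), ∃ a : Fin r → Γ(Spec (CommRingCat.of A), ⊤),
      t = ∑ j, (X ↘ Spec (CommRingCat.of A)).appTop.hom (a j) • s j := by
  haveI := CohFinite.finite_proper A X M hM 0
  haveI : Module.Finite A ((CohIII.globalSectionsA A).obj M : Type u) :=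
    Module.Finite.equiv (W7Cech.gsH0L A M).symm
  obtain ⟨r, s, hs⟩ := Module.Finite.exists_fin (R := A) (M := ((CohIII.globalSectionsA A).obj M : Type u))
  refine ⟨r, s, fun t => ?_⟩
  let t' : ((CohIII.globalSectionsA A).obj M : Type u) := t
  have htm : t' ∈ Submodule.span A (Set.range s) := hs ▸ Submodule.mem_top
  obtain ⟨a, ha⟩ := (Submodule.mem_span_range_iff_exists_fun (R := A)).1 htm
  exact ⟨fun j => (Scheme.ΓSpecIso (CommRingCat.of A)).inv.hom (a j), ha.symm⟩

omit [IsNoetherianRing A] [IsProper (X ↘ Spec (CommRingCat.of A))] in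
/-- A spanning family of sections of a generated invertible module generates. -/
theorem gen_of_span {L : X.Modules} (hL : PicF.IsInvertible L) (hg : Curv2.IsGloballyGenerated L) {r : ℕ}
    (s : Fin r → Γ(L, ⊤)) (hs : ∀ t : Γ(L, ⊤), ∃ c : Fin r → Γ(X, ⊤), t = ∑ j, c j • s j) (x : X) :
    ∃ j, x ∈ CohB1.genLocus L (homOf (s j)) := by
  obtain ⟨t, ht⟩ := Groth.Agent.S1664.gen_of_globallyGenerated hL hg x
  obtain ⟨U, e, hxU, he⟩ := TMul.exists_isGen hL x
  choose b hb using fun j => (he U le_rfl).2 (res L le_top (s j))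
  simp only [res_self] at hb
  obtain ⟨c, hc⟩ := hs (val t ⊤)
  have hv : val t U = (∑ j, resO X (le_top : U ≤ ⊤) (c j) * b j) • e := by
    rw [← TMul.res_val t (le_top : U ≤ ⊤), hc, map_sum, Finset.sum_smul]
    refine Finset.sum_congr rfl fun j _ => ?_
    rw [res_smul, ← hb j, smul_smul]
  have hu := (TMul.mem_genLocus_iff_isUnit t he hv hxU).1 ht
  by_contra hno
  push Not at hno
  refine (IsLocalRing.maximalIdeal.isMaximal (X.presheaf.stalk x)).ne_top
    (Ideal.eq_top_of_isUnit_mem _ ?_ hu)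
  rw [map_sum]
  refine sum_mem fun j _ => ?_
  rw [map_mul]
  exact Ideal.mul_mem_left _ _ fun hu' => hno j ((TMul.mem_genLocus_iff_isUnit _ he
    ((val_homOf _ _).trans (hb j).symm) hxU).2 hu')

/-- An ample module is relatively nef. -/
theorem relNef_of_isAmple {L : X.Modules} (hL : CohB1.IsAmple L) : H1Triv.RelNef A L := by
  intro K _ i J t hJ hJd ht
  haveI : IsProper (t ≫ Spec.map (CommRingCat.ofHom i)) := by rw [ht]; infer_instance
  haveI : IsProper t := IsProper.of_comp t (Spec.map (CommRingCat.ofHom i))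
  letI : J.subscheme.Over (Spec (CommRingCat.of K)) := ⟨t⟩
  haveI : IsProper (J.subscheme ↘ Spec (CommRingCat.of K)) := ‹_›
  haveI := hJ
  exact (CurveRR.deg_pos_of_isAmple (k := K) hJd (TMul.isAmple_pullback_of_isAffineHom J.subschemeι hL)).le

variable (hd : ∀ y, topologicalKrullDim ↥((X ↘ Spec (CommRingCat.of A)).fiber y) ≤ 1)
  (hO : Subsingleton (Coh.HH X (Coh.structureModule X) 1)) {L : X.Modules} (hL : CohB1.IsAmple L)

include hd hO hL

theorem h1_pow : ∀ n : ℕ, Subsingleton (Coh.HH X (CohB1.tensorPow L n) 1)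
  | 0 => hO
  | n + 1 => H1Triv.subsingleton_h1_rel hd hO (TMul.isInvertible_tensorPow hL.1 (n + 1))
      (relNef_of_isAmple (TMul.isAmple_tensorPow hL n.succ_pos))

/-- Ample modules are normally generated. -/
theorem exists_normal_generators : ∃ (r : ℕ) (s : Fin r → Γ(L, ⊤)),
    (∀ t : Γ(L, ⊤), ∃ a : Fin r → Γ(Spec (CommRingCat.of A), ⊤),
      t = ∑ j, (X ↘ Spec (CommRingCat.of A)).appTop.hom (a j) • s j) ∧
    ∀ n : ℕ, 1 ≤ n → ∀ t : Γ(CohB1.tensorPow L (n + 1), ⊤),
      ∃ m : Fin r → Γ(CohB1.tensorPow L n, ⊤), t = ∑ j, tm (m j) (s j) := by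
  haveI := H1Triv.isNoetherian_of_proper_ring A (X := X)
  obtain ⟨r, s, hs⟩ := exists_span (A := A) (CurveRR.isCoh_of_inv hL.1)
  refine ⟨r, s, hs, fun n hn t => ?_⟩
  obtain ⟨j, rfl⟩ : ∃ j, n = j + 1 := ⟨n - 1, (Nat.sub_add_cancel hn).symm⟩
  have hg := (H1Triv.generated_and_h1_rel hd hO hL.1 (relNef_of_isAmple hL)).1
  have hgen : ∀ x : X, ∃ j, x ∈ CohB1.genLocus L (homOf (s j)) := gen_of_span hL.1 hg s fun t => by
    obtain ⟨a, ha⟩ := hs t
    exact ⟨_, ha⟩
  exact exists_eq_sum A (H1Triv.h2_vanish hd) (TMul.isInvertible_tensorPow hL.1 j) hL.1 s hgen (h1_pow hd hO hL j) t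

/-- Ample modules are very ample. -/
theorem isRelVeryAmplePn_of_h1_trivial : RelAmple.IsRelVeryAmplePn (X ↘ Spec (CommRingCat.of A)) L := by
  obtain ⟨r, s, h1, h2⟩ := exists_normal_generators hd hO hL
  exact isRelVeryAmplePn_of_span _ s h1 h2 hL

end Groth.Agent.NormGen
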