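import Groth.Agent.NormGen.Square
import Groth.Agent.CompInt.Cohom
import Groth.Agent.SuppZero.Basic

/-!
A regular section with vanishing `H¹`: multiplication surjects onto the zero locus.
-/

set_option autoImplicit false
set_option backward.isDefEq.respectTransparency false
set_option backward.isDefEq.respectTransparency.types false
set_option linter.style.haveILetI false
set_option linter.unusedSectionVars false

universe u

open CategoryTheory CategoryTheory.Limits AlgebraicGeometry TopologicalSpace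
open Groth.Agent.QC (res resO res_res res_self res_smul app_res)
open TMul (tm IsGen homOf val)

noncomputable section

namespace Groth.Agent.NormGen

variable {X : Scheme.{u}} {L : X.Modules} (σ : Coh.structureModule X ⟶ L) [Mono σ]

/-- The coefficient of a regular section is a nonzerodivisor. -/
theorem eq_zero_of_mul {W : X.Opens} {e : Γ(L, W)} (_he : IsGen e) {c : Γ(X, W)} (hc : val σ W = c • e)
    {a : Γ(X, W)} (h : a * c = 0) : a = 0 := by
  refine Groth.Agent.QC.app_injective_of_mono σ W ?_
  refine Eq.trans ?_ (map_zero _).symm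
  have h1 : σ.app W (a • (1 : Γ(X, W))) = a • val σ W := TMul.app_smul σ a _
  have h2 : σ.app W a = a • val σ W := by
    refine Eq.trans ?_ h1
    exact congrArg (σ.app W) (mul_one a).symm
  rw [h2, hc, smul_smul, h, zero_smul]

theorem injective_mul_section (hL : PicF.IsInvertible L) {M : X.Modules} (hM : PicF.IsInvertible M)
    (U : X.Opens) : Function.Injective ((mulR M (val σ ⊤)).app U) := (injective_iff_map_eq_zero _).2 fun m hm => by
  rw [mulR_app] at hm
  refine Groth.Agent.QC.section_eq_of_locally fun x hx => ?_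
  obtain ⟨V, hV, e, hxV, he⟩ := CohFinite.exists_gen_le hL hx
  obtain ⟨W, hW, g, hxW, hg⟩ := CohFinite.exists_gen_le hM hxV
  have he' : IsGen (res L hW e) := he.res hW
  refine ⟨W, hW.trans hV, hxW, ?_⟩
  rw [map_zero]
  obtain ⟨c, hc⟩ := (he' W le_rfl).2 (val σ W)
  obtain ⟨a, ha⟩ := (hg W le_rfl).2 (res M (hW.trans hV) m)
  simp only [res_self] at hc ha
  have h0 : tm (res M (hW.trans hV) m) (val σ W) = 0 := by
    have h := congrArg (res (CohB1.tensorMod M L) (hW.trans hV)) hm
    rw [map_zero, TMul.res_tm, res_res] at h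
    rwa [TMul.res_val] at h
  rw [← ha, ← hc, TMul.tm_smul, TMul.smul_tm, smul_smul] at h0
  have h1 : c * a = 0 := ((TMul.isGen_tm hg he') W le_rfl).1 (by
    simp only [res_self]
    exact h0.trans (zero_smul _ _).symm)
  rw [← ha, eq_zero_of_mul σ he' hc.symm ((mul_comm a c).trans h1), zero_smul]

/-- Outside the locus where a regular section generates, all points are closed in dimension one. -/
theorem isClosed_singleton_of_notMem [IsLocallyNoetherian X] (hdim : topologicalKrullDim X ≤ 1)
    (hL : PicF.IsInvertible L) {x : X} (hx : x ∉ CohB1.genLocus L σ) : IsClosed ({x} : Set X) := by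
  letI := specializationOrder X
  refine isClosed_of_closure_subset fun z hz => ?_
  by_contra hne
  have hzx : x ⤳ z := specializes_iff_mem_closure.2 hz
  have hlt : z < x := lt_of_le_not_ge (show z ≤ x from hzx) fun h => hne ((Specializes.antisymm h hzx).eq)
  have h1 : Order.coheight x + 1 ≤ Order.coheight z := Order.coheight_add_one_le hlt
  have h2 : ringKrullDim (X.presheaf.stalk z) ≤ 1 :=
    (RegDual.ringKrullDim_stalk_le_topologicalKrullDim z).trans hdim
  rw [ringKrullDim_stalk_eq_coheight] at h2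
  have h3 : Order.coheight z ≤ (1 : ℕ∞) := WithBot.coe_le_coe.1 h2
  have h4 : Order.coheight x = 0 := by
    have h5 := h1.trans h3
    generalize Order.coheight x = d at h5
    match d with
    | ⊤ => simp at h5
    | (n : ℕ) => exact_mod_cast (by
        have : n + 1 ≤ 1 := by exact_mod_cast h5
        omega : n = 0)
  haveI : IsNoetherianRing (X.presheaf.stalk x) := inferInstance
  haveI : Ring.KrullDimLE 0 (X.presheaf.stalk x) := Ring.krullDimLE_iff.2 (by
    rw [ringKrullDim_stalk_eq_coheight, h4]; rfl)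
  obtain ⟨U, e, hxU, he⟩ := TMul.exists_isGen hL x
  obtain ⟨c, hc⟩ := (he U le_rfl).2 (val σ U)
  simp only [res_self] at hc
  have hnu : ¬ IsUnit ((X.presheaf.germ U x hxU).hom c) := fun h =>
    hx ((TMul.mem_genLocus_iff_isUnit σ he hc.symm hxU).2 h)
  obtain ⟨m, hm⟩ := Ring.KrullDimLE.isNilpotent_iff_mem_nonunits.2 hnu
  rw [← map_pow] at hm
  obtain ⟨W, hxW, i, j, he0⟩ := TopCat.Presheaf.germ_eq X.presheaf x hxU hxU (c ^ m) 0 (hm.trans (map_zero _).symm)
  have hcW : resO X i.le c ^ m = 0 := by
    rw [← map_pow]; exact he0.trans (map_zero _)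
  have hsig : val σ W = resO X i.le c • res L i.le e := by
    rw [← TMul.res_val σ i.le, ← hc, res_smul]
  have key : ∀ n, resO X i.le c ^ n = 0 → (1 : Γ(X, W)) = 0 := fun n => by
    induction n with
    | zero => exact fun h => by rw [← pow_zero (resO X i.le c)]; exact h
    | succ n ih => exact fun h => ih (eq_zero_of_mul σ (he.res i.le) hsig (by rw [← pow_succ]; exact h))
  have : (1 : X.presheaf.stalk x) = 0 := by
    rw [← map_one (X.presheaf.germ W x hxW).hom, key m hcW, map_zero]
  exact one_ne_zero this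

/-- Sections of a short exact sequence are exact in the middle. -/
theorem sections_exact (S : ShortComplex X.Modules) (hS : S.ShortExact) (U : X.Opens) :
    Function.Exact (Groth.Agent.QC.appₗ S.f U) (Groth.Agent.QC.appₗ S.g U) := by
  haveI := hS.mono_f
  haveI : (Scheme.Modules.toPresheaf X ⋙ (evaluation _ Ab.{u}).obj (Opposite.op U)).PreservesZeroMorphisms := ⟨fun _ _ => rfl⟩
  haveI : PreservesFiniteLimits (Scheme.Modules.toPresheaf X) :=
    PreservesLimitsOfSize.preservesFiniteLimits (F := Scheme.Modules.toPresheaf X)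
  haveI : PreservesFiniteLimits (Scheme.Modules.toPresheaf X ⋙ (evaluation _ Ab.{u}).obj (Opposite.op U)) :=
    haveI : PreservesFiniteLimits ((evaluation (TopologicalSpace.Opens ↥X)ᵒᵖ Ab.{u}).obj (Opposite.op U)) :=
      ⟨fun _ _ _ => evaluation_preservesLimitsOfShape _⟩
    comp_preservesFiniteLimits _ _
  have h : (S.map (Scheme.Modules.toPresheaf X ⋙ (evaluation _ _).obj (Opposite.op U))).Exact :=
    hS.exact.map_of_mono_of_preservesKernel _ hS.mono_f inferInstance
  exact ShortComplex.ab_exact_iff_function_exact _ |>.1 h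

section Aux

variable {M : X.Modules}

/-- The cokernel of multiplication by a section vanishes where it generates. -/
theorem coker_zero (hM : PicF.IsInvertible M) (O : X.Opens) (hO : O ≤ CohB1.genLocus L σ)
    (t : Γ(cokernel (mulR M (val σ ⊤)), O)) : t = 0 :=
    Groth.Agent.QC.section_eq_of_locally fun y hy => by
      obtain ⟨O', hO', hyO', a, ha⟩ := TMul.exists_app_eq_of_epi (cokernel.π (mulR M (val σ ⊤))) t hy
      have he : IsGen (res L (le_top : O' ≤ ⊤) (val σ ⊤)) := by
        have h := (TMul.isGen_genLocus σ).res (hO'.trans hO)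
        rwa [TMul.res_val, ← TMul.res_val σ (le_top : O' ≤ ⊤)] at h
      obtain ⟨m, hm⟩ := (TMul.tm_bijective (M := M) he O' le_rfl).2 a
      refine ⟨O', hO', hyO', ?_⟩
      rw [map_zero, ← ha, ← hm]
      simp only [res_self]
      rw [← mulR_app]
      change (mulR M (val σ ⊤) ≫ cokernel.π (mulR M (val σ ⊤))).app O' m = 0
      rw [cokernel.condition]; rfl

/-- The zeros of a regular section on a curve are finite in number. -/
theorem finite_compl (k : Type u) [Field k] [X.Over (Spec (CommRingCat.of k))] [IsProper (X ↘ Spec (CommRingCat.of k))]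
    (hdim : topologicalKrullDim X ≤ 1) (hL : PicF.IsInvertible L) : ((CohB1.genLocus L σ : Set X)ᶜ).Finite := by
  haveI := CurveRR.isNoetherian_of_proper k X
  let G := CohB1.genLocus L σ
  obtain ⟨S', hSf, hSc, hSi, hsup⟩ := NoetherianSpace.exists_finite_set_isClosed_irreducible G.2.isClosed_compl
  rw [show (G : Set X)ᶜ = ⋃₀ S' from hsup]
  refine hSf.sUnion fun Z hZ => ?_
  obtain ⟨η, hη⟩ := QuasiSober.sober (hSi Z hZ) (hSc Z hZ)
  have hηB : η ∈ (G : Set X)ᶜ := by
    rw [show (G : Set X)ᶜ = ⋃₀ S' from hsup]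
    exact Set.subset_sUnion_of_mem hZ hη.mem
  refine (Set.finite_singleton η).subset fun z hz => ?_
  have hc := (isClosed_singleton_of_notMem σ hdim hL hηB).closure_eq
  rw [← hη.def, hc] at hz
  exact hz

end Aux

variable (k : Type u) [Field k] [X.Over (Spec (CommRingCat.of k))] [IsProper (X ↘ Spec (CommRingCat.of k))]
  (hdim : topologicalKrullDim X ≤ 1) (hL : PicF.IsInvertible L) {M : X.Modules} (hM : PicF.IsInvertible M)

include σ k hdim hL hM

/-- If `H¹(M) = 0` then some section of `M ⊗ L` generates at a given zero of the regular section. -/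
theorem exists_section_gen (h1 : Subsingleton (Coh.HH X M 1)) {x : X} (hx : x ∉ CohB1.genLocus L σ) :
    ∃ t : Γ(CohB1.tensorMod M L, ⊤), x ∈ CohB1.genLocus (CohB1.tensorMod M L) (homOf t) := by
  haveI := CurveRR.isNoetherian_of_proper k X
  let T := CohB1.tensorMod M L
  have hT : PicF.IsInvertible T := TMul.isInvertible_tensorMod hM hL
  let s : Γ(L, ⊤) := val σ ⊤
  let u := mulR M s
  haveI : Mono u := (Groth.Agent.QC.mono_iff_app_injective u).2 (injective_mul_section σ hL hM)
  let S : ShortComplex X.Modules := ShortComplex.mk u (cokernel.π u) (cokernel.condition u)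
  have hS : S.ShortExact :=
    { exact := ShortComplex.exact_of_g_is_cokernel S (cokernelIsCokernel u)
      mono_f := ‹Mono u›
      epi_g := inferInstanceAs (Epi (cokernel.π u)) }
  let G := CohB1.genLocus L σ
  have hkill : ∀ O : X.Opens, ∀ t, (cokernel.π u).app O (u.app O t) = 0 := fun O t => by
    change (u ≫ cokernel.π u).app O t = 0
    rw [cokernel.condition]; rfl
  have hQG : ∀ O : X.Opens, O ≤ G → ∀ t : Γ(cokernel u, O), t = 0 := coker_zero σ hM
  have hGfin : ((G : Set X)ᶜ).Finite := finite_compl σ k hdim hL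
  obtain ⟨U₀, e, hxU₀, he⟩ := TMul.exists_isGen hT x
  let N : X.Opens := U₀ ⊓ ⟨((G : Set X)ᶜ \ {x})ᶜ, (by
    rw [← Set.biUnion_of_singleton ((G : Set X)ᶜ \ {x})]
    exact (hGfin.subset Set.sdiff_subset).isClosed_biUnion fun z hz =>
      isClosed_singleton_of_notMem σ hdim hL hz.1 : IsClosed (((G : Set X)ᶜ) \ {x})).isOpen_compl⟩
  have hxN : x ∈ N := ⟨hxU₀, fun h => h.2 rfl⟩
  let P : X.Opens := ⟨{x}ᶜ, (isClosed_singleton_of_notMem σ hdim hL hx).isOpen_compl⟩
  have hNP : N ⊓ P ≤ G := fun z hz => by
    by_contra hzG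
    exact hz.1.2 ⟨hzG, hz.2⟩
  let eN : Γ(T, N) := res T inf_le_left e
  let Qs : TopCat.Sheaf Ab X.toTopCat := Coh.toAb (cokernel u)
  let Ui : ULift.{u} Bool → X.Opens := fun b => if b.down then N else P
  let si : ∀ b, Γ(cokernel u, Ui b) := fun ⟨b⟩ => match b with
    | true => (cokernel.π u).app N eN
    | false => 0
  have hcover : ∀ y : X, y ∈ (⊤ : X.Opens) → y ∈ ⨆ b, Ui b := fun y _ => by
    by_cases hy : y = x
    · exact Opens.mem_iSup.2 ⟨⟨true⟩, hy ▸ hxN⟩
    · exact Opens.mem_iSup.2 ⟨⟨false⟩, hy⟩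
  obtain ⟨g, hg, -⟩ := Qs.existsUnique_gluing' Ui ⊤ (fun _ => homOfLE le_top) hcover si (by
    rintro ⟨i⟩ ⟨j⟩
    cases i <;> cases j
    · rfl
    · exact (map_zero _).trans (hQG _ (le_trans (le_inf inf_le_right inf_le_left) hNP) _).symm
    · exact (hQG _ hNP _).trans (map_zero _).symm
    · rfl)
  obtain ⟨t, ht⟩ := CompInt.surjective_app_top hS h1 g
  have hQ : (cokernel.π u).app N (res T le_top t - eN) = 0 := by
    rw [map_sub, ← app_res (cokernel.π u), sub_eq_zero]
    exact (congrArg (res (cokernel u) (le_top : N ≤ ⊤)) ht).trans (hg ⟨true⟩)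
  obtain ⟨m, hm⟩ := ((sections_exact S hS N) (res T le_top t - eN)).1 hQ
  let W : X.Opens := N
  have hW : W ≤ N := le_rfl
  have hxW : x ∈ W := hxN
  have hm : u.app W m = res T le_top t - eN := hm
  obtain ⟨W₂, hW₂, e₂, hxW₂, he₂⟩ := CohFinite.exists_gen_le hL hxW
  obtain ⟨c, hc⟩ := (he₂ W₂ le_rfl).2 (val σ W₂)
  simp only [res_self] at hc
  have hle : W₂ ≤ U₀ := hW₂.trans (hW.trans inf_le_left)
  have hgT : IsGen (res T hle e) := he.res _
  obtain ⟨b, hb⟩ := (hgT W₂ le_rfl).2 (tm (res M hW₂ m) e₂)
  simp only [res_self] at hb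
  refine ⟨t, (TMul.mem_genLocus_iff_isUnit (homOf t) hgT (c := 1 + c * b) ?_ hxW₂).2 ?_⟩
  · rw [TMul.val_homOf, add_smul, one_smul, ← smul_smul, hb, ← TMul.tm_smul, hc]
    have h2 := congrArg (res T hW₂) hm
    rw [map_sub, res_res] at h2
    have h3 : res T hW₂ (u.app W m) = tm (res M hW₂ m) (val σ W₂) := by
      rw [mulR_app, TMul.res_tm, res_res, TMul.res_val]
    rw [h3] at h2
    have h4 : res T (hW₂.trans hW) eN = res T hle e := res_res _ _ _ _
    rw [h4] at h2
    rw [h2]; abel
  · rw [map_add, map_one, map_mul]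
    have hnu : ¬ IsUnit ((X.presheaf.germ W₂ x hxW₂).hom c) := fun h =>
      hx ((TMul.mem_genLocus_iff_isUnit σ he₂ hc.symm hxW₂).2 h)
    by_contra hno
    have hm1 := (IsLocalRing.mem_maximalIdeal _).2 hno
    have hm2 : (X.presheaf.germ W₂ x hxW₂).hom c * (X.presheaf.germ W₂ x hxW₂).hom b ∈
        IsLocalRing.maximalIdeal (X.presheaf.stalk x) :=
      Ideal.mul_mem_right _ _ ((IsLocalRing.mem_maximalIdeal _).2 hnu)
    have := Ideal.sub_mem _ hm1 hm2
    rw [add_sub_cancel_right] at this
    exact (IsLocalRing.maximalIdeal.isMaximal _).ne_top ((Ideal.eq_top_iff_one _).2 this)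

/-- `H¹(M) = 0` forces `H¹(M ⊗ L) = 0`. -/
theorem subsingleton_h1_mul (h1 : Subsingleton (Coh.HH X M 1)) :
    Subsingleton (Coh.HH X (CohB1.tensorMod M L) 1) := by
  haveI := CurveRR.isNoetherian_of_proper k X
  let u := mulR M (val σ ⊤)
  haveI : Mono u := (Groth.Agent.QC.mono_iff_app_injective u).2 (injective_mul_section σ hL hM)
  let S : ShortComplex X.Modules := ShortComplex.mk u (cokernel.π u) (cokernel.condition u)
  have hS : S.ShortExact :=
    { exact := ShortComplex.exact_of_g_is_cokernel S (cokernelIsCokernel u)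
      mono_f := ‹Mono u›
      epi_g := inferInstanceAs (Epi (cokernel.π u)) }
  let Z : Set X := (CohB1.genLocus L σ : Set X)ᶜ
  have hZ : IsClosed Z := (CohB1.genLocus L σ).2.isClosed_compl
  haveI : Finite Z := (finite_compl σ k hdim hL).to_subtype
  haveI : T1Space Z := ⟨fun z => by
    have h := (isClosed_singleton_of_notMem σ hdim hL z.2).preimage (continuous_subtype_val (p := fun y => y ∈ Z))
    convert h using 1
    ext w; simp [Subtype.ext_iff]⟩
  haveI : DiscreteTopology Z := inferInstance
  have hd : topologicalKrullDim Z ≤ 0 := by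
    rcases isEmpty_or_nonempty Z with hE | hne
    · haveI : IsEmpty (TopologicalSpace.IrreducibleCloseds Z) :=
        ⟨fun a => a.isIrreducible.nonempty.elim fun z _ => hE.elim z⟩
      exact (Order.krullDim_eq_bot).trans_le bot_le
    · exact topologicalKrullDim_zero_of_discreteTopology Z
  have hQ : Subsingleton (Coh.HH X (cokernel u) 1) :=
    SuppZero.subsingleton_hh_of_supported hZ hd _ (fun y hy => by
      rw [Groth.Agent.QC.notMem_support_iff]
      intro O hyO t
      exact ⟨O ⊓ CohB1.genLocus L σ, inf_le_left, ⟨hyO, not_not.1 hy⟩, coker_zero σ hM _ inf_le_right _⟩) 1 le_rfl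
  refine subsingleton_of_forall_eq 0 fun z => ?_
  obtain ⟨w, rfl⟩ := (CohFinite.map_g_eq_zero_iff (CohFinite.shortExact_toAb hS) 1 z).1 (hQ.elim _ _)
  rw [h1.elim w 0, map_zero]

end Groth.Agent.NormGen
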