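import Groth.Agent.NormGen.Apps

/-!
Spanning statements for multiplication of global sections.
-/

set_option autoImplicit false
set_option backward.isDefEq.respectTransparency false
set_option backward.isDefEq.respectTransparency.types false
set_option linter.style.haveILetI false
set_option linter.unusedSectionVars false

universe u

open CategoryTheory CategoryTheory.Limits AlgebraicGeometry TopologicalSpace
open Groth.Agent.QC (res res_res res_self)
open TMul (tm IsGen homOf)

noncomputable section

namespace Groth.Agent.NormGen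

variable {X : Scheme.{u}}

theorem mem_span_zero {L : X.Modules} (t : Γ(CohB1.tensorPow L 1, ⊤)) :
    ∃ (m : Γ(CohB1.tensorPow L 0, ⊤)) (l : Γ(L, ⊤)), t = tm m l := by
  let Φ : CohB1.tensorMod (Coh.structureModule X) L ≅ L := TMul.leftUnitIso L
  refine ⟨(1 : Γ(X, ⊤)), Φ.hom.app ⊤ t, ?_⟩
  refine (ConcreteCategory.bijective_of_isIso (Φ.hom.app ⊤)).1 ?_
  exact ((CurveRR.leftUnitIso_tm L (1 : Γ(X, ⊤)) _).trans (one_smul _ _)).symm

variable (A : Type u) [CommRing A] [X.Over (Spec (CommRingCat.of A))] [IsNoetherian X]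
  (hv : ∀ M : X.Modules, Coh.IsCoh M → Subsingleton (Coh.HH X M 2))
  {N L : X.Modules} (hN : PicF.IsInvertible N) (hL : PicF.IsInvertible L)
  {r : ℕ} (s : Fin r → Γ(L, ⊤)) (hgen : ∀ x : X, ∃ j, x ∈ CohB1.genLocus L (homOf (s j)))

include A hv hN hL hgen

/-- Twisting by a generated invertible module preserves the vanishing of `H¹`. -/
theorem h1_tensor_of_generated (h : Subsingleton (Coh.HH X N 1)) :
    Subsingleton (Coh.HH X (CohB1.tensorMod N L) 1) := by
  let Φ : (⨁ fun _ : Fin r => N) ⟶ CohB1.tensorMod N L := biproduct.desc fun j => mulR N (s j)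
  haveI : Epi Φ := InvGen.epi_of_locally _ fun U t x hx => by
    obtain ⟨i, hi⟩ := hgen x
    let V := U ⊓ CohB1.genLocus L (TMul.homOf (s i))
    have he : IsGen (res L (le_top : V ≤ ⊤) (s i)) := by
      have := ((ProjMor.isGen_homOf (s i)).res (inf_le_right : V ≤ _))
      rwa [res_res] at this
    obtain ⟨m, hm⟩ := (TMul.tm_bijective (M := N) he V le_rfl).2 (res _ inf_le_left t)
    refine ⟨V, inf_le_left, ⟨hx, hi⟩, (biproduct.ι (fun _ : Fin r => N) i).app V m, ?_⟩
    change (biproduct.ι (fun _ : Fin r => N) i ≫ Φ).app V m = _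
    rw [biproduct.ι_desc, mulR_app, ← hm]
    simp only [res_self]
  exact H1Triv.subsingleton_h1_of_epi A hv (Devissage.isCoh_biproduct _ fun _ => CurveRR.isCoh_of_inv hN)
    (CurveRR.isCoh_of_inv (TMul.isInvertible_tensorMod hN hL)) Φ (CohQC.subsingleton_hh_biproduct _ 1 fun _ => h)

end Groth.Agent.NormGen
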