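import Groth.Agent.NormGen.Span
import Groth.Agent.PnSpec.Twist
import Groth.Agent.W7Cech.TensorSec
import Groth.Agent.W7Hull.HomAdj

/-!
Squares of generated modules with vanishing `H¹`: multiplication of sections and very ampleness.
-/

set_option autoImplicit false
set_option backward.isDefEq.respectTransparency false
set_option backward.isDefEq.respectTransparency.types false
set_option linter.style.haveILetI false
set_option linter.unusedSectionVars false

universe u

open CategoryTheory CategoryTheory.Limits AlgebraicGeometry TopologicalSpace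
open Groth.Agent.QC (res res_res res_self res_smul app_res)
open TMul (tm IsGen homOf)

noncomputable section

namespace Groth.Agent.NormGen

theorem exists_closedImmersion_of_pn (k : Type u) [Field k] {X : Scheme.{u}} [X.Over (Spec (CommRingCat.of k))]
    [IsProper (X ↘ (Spec (CommRingCat.of k)))] {L : X.Modules}
    (h : RelAmple.IsRelVeryAmplePn (X ↘ Spec (CommRingCat.of k)) L) :
    ∃ (n : ℕ) (i : X ⟶ CohB1.ProjSpace n k), IsClosedImmersion i ∧
      i ≫ CohB1.ProjSpace.toSpec n k = X ↘ (Spec (CommRingCat.of k)) ∧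
      Nonempty ((Scheme.Modules.pullback i).obj (Twist.twistProjSpace n k 1) ≅ L) := by
  obtain ⟨n, i, hi, hif, ⟨φ⟩⟩ := h
  obtain ⟨e, he, ht⟩ := Groth.Agent.PnSpec.exists_iso_twist n k
  obtain ⟨t⟩ := ht 1
  haveI := hi
  have hcomp : (i ≫ e.inv) ≫ CohB1.ProjSpace.toSpec n k = X ↘ Spec (CommRingCat.of k) := by
    rw [← he, Category.assoc, Iso.inv_hom_id_assoc]
    exact hif
  haveI : IsProper ((i ≫ e.inv) ≫ CohB1.ProjSpace.toSpec n k) := by rw [hcomp]; infer_instance
  haveI : IsSeparated (CohB1.ProjSpace.toSpec n k) := by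
    haveI := ProjMor.isProper_toSpec n k
    infer_instance
  haveI : IsProper (i ≫ e.inv) := IsProper.of_comp (i ≫ e.inv) (CohB1.ProjSpace.toSpec n k)
  refine ⟨n, i ≫ e.inv, IsClosedImmersion.of_isPreimmersion _ (i ≫ e.inv).isClosedMap.isClosed_range, hcomp, ⟨?_⟩⟩
  exact (Scheme.Modules.pullback (i ≫ e.inv)).mapIso t.symm ≪≫
    (Scheme.Modules.pullbackComp (i ≫ e.inv) e.hom).app _ ≪≫
    (Scheme.Modules.pullbackCongr (by rw [Category.assoc, Iso.inv_hom_id, Category.comp_id])).app _ ≪≫ φ.symm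

variable {X : Scheme.{u}} (L : X.Modules)

/-- `(M ⊗ L) ⊗ L ⟶ M ⊗ L²`. -/
def toSq (M : X.Modules) :
    CohB1.tensorMod (CohB1.tensorMod M L) L ⟶ CohB1.tensorMod M (CohB1.tensorPow L 2) :=
  (TMul.assocIso M L L).hom ≫ ((DCoh.tensorBi (X := X)).obj M).map
    ((DCoh.tensorRightMod L).map (TMul.leftUnitIso L).inv)

/-- A section of `L` as a section of `L¹`. -/
def one' {U : X.Opens} (l : Γ(L, U)) : Γ(CohB1.tensorPow L 1, U) :=
  tm (1 : Γ(X, U)) l

theorem leftUnitIso_inv {U : X.Opens} (l : Γ(L, U)) : (TMul.leftUnitIso L).inv.app U l = one' L l := by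
  apply (ConcreteCategory.bijective_of_isIso ((TMul.leftUnitIso L).hom.app U)).1
  refine Eq.trans ?_ ((CurveRR.leftUnitIso_tm L (1 : Γ(X, U)) l).trans (one_smul _ l)).symm
  change ((TMul.leftUnitIso L).inv ≫ (TMul.leftUnitIso L).hom).app U l = l
  rw [Iso.inv_hom_id]
  rfl

theorem res_one' {V U : X.Opens} (h : V ≤ U) (l : Γ(L, U)) :
    res (CohB1.tensorPow L 1) h (one' L l) = one' L (res L h l) := by
  unfold one'
  refine Eq.trans (TMul.res_tm h _ l) ?_
  refine congrArg (fun z => tm z (res L h l)) ?_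
  exact map_one (X.presheaf.map (homOfLE h).op).hom

theorem toSq_tm (M : X.Modules) {U : X.Opens} (a : Γ(M, U)) (l l' : Γ(L, U)) :
    (toSq L M).app U (tm (tm a l) l') = tm a (tm (one' L l) l' : Γ(CohB1.tensorPow L 2, U)) := by
  change (((DCoh.tensorBi (X := X)).obj M).map ((DCoh.tensorRightMod L).map (TMul.leftUnitIso L).inv)).app U
    ((TMul.assocIso M L L).hom.app U (tm (tm a l) l')) = _
  rw [show (TMul.assocIso M L L).hom.app U (tm (tm a l) l') = tm a (tm l l') from TMul.assocHom_tm a l l']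
  refine (W7Hull.map_tm M _ a (tm l l')).trans ?_
  refine congrArg (tm a) ?_
  exact (W7Cech.map_tm (TMul.leftUnitIso L).inv L l l').trans
    (congrArg (fun z => (tm z l' : Γ(CohB1.tensorPow L 2, U))) (leftUnitIso_inv L l))

instance (M : X.Modules) : IsIso (toSq L M) := by
  unfold toSq
  infer_instance

variable {L} (k : Type u) [Field k] [X.Over (Spec (CommRingCat.of k))] [IsProper (X ↘ Spec (CommRingCat.of k))]
  (hdim : topologicalKrullDim X ≤ 1) (hL : PicF.IsInvertible L) (hg : Curv2.IsGloballyGenerated L)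
  (h1 : Subsingleton (Coh.HH X L 1))

include k hdim hL hg h1

/-- `L²` has its sections spanned by products, and is very ample when `L` is ample. -/
theorem isRelVeryAmplePn_sq (hA : CohB1.IsAmple L) :
    RelAmple.IsRelVeryAmplePn (X ↘ Spec (CommRingCat.of k)) (CohB1.tensorPow L 2) := by
  classical
  haveI := CurveRR.isNoetherian_of_proper k X
  have hv : ∀ M : X.Modules, Coh.IsCoh M → Subsingleton (Coh.HH X M 2) := fun M _ =>
    CurveRR.subsingleton_of_two_le (k := k) hdim M 2 le_rfl
  obtain ⟨r, s, hs⟩ := exists_span (A := k) (CurveRR.isCoh_of_inv hL)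
  have hgen : ∀ x : X, ∃ j, x ∈ CohB1.genLocus L (homOf (s j)) := gen_of_span hL hg s fun t => by
    obtain ⟨a, ha⟩ := hs t
    exact ⟨_, ha⟩
  let N := CohB1.tensorPow L 2
  have hN : PicF.IsInvertible N := TMul.isInvertible_tensorPow hL 2
  have hL1 : PicF.IsInvertible (CohB1.tensorPow L 1) := TMul.isInvertible_tensorPow hL 1
  have hh1 : Subsingleton (Coh.HH X (CohB1.tensorPow L 1) 1) :=
    CohQC.hh_subsingleton_of_iso (TMul.leftUnitIso L).symm 1 h1
  have hhN : Subsingleton (Coh.HH X N 1) := h1_tensor_of_generated k hv hL1 hL s hgen hh1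
  let q : Fin r × Fin r → Γ(N, ⊤) := fun p => tm (one' L (s p.1)) (s p.2)
  let e := Fintype.equivFin (Fin r × Fin r)
  let q' : Fin (Fintype.card (Fin r × Fin r)) → Γ(N, ⊤) := fun i => q (e.symm i)
  have hgenN : ∀ x : X, ∃ i, x ∈ CohB1.genLocus N (homOf (q' i)) := fun x => by
    obtain ⟨j, hj⟩ := hgen x
    refine ⟨e (j, j), ?_⟩
    let V := CohB1.genLocus L (homOf (s j))
    have he : IsGen (res L (le_top : V ≤ ⊤) (s j)) := by
      simpa using ProjMor.isGen_homOf (s j)
    have hone : IsGen (one' L (res L (le_top : V ≤ ⊤) (s j))) :=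
      TMul.isGen_tm (TMul.isGen_one V) he
    have hq : IsGen (tm (one' L (res L (le_top : V ≤ ⊤) (s j))) (res L (le_top : V ≤ ⊤) (s j))) :=
      TMul.isGen_tm hone he
    refine (TMul.mem_genLocus_iff_isUnit (homOf (q' (e (j, j)))) hq (c := 1) ?_ hj).2 (by simp)
    rw [one_smul, TMul.val_homOf]
    change res _ le_top (q (e.symm (e (j, j)))) = _
    rw [Equiv.symm_apply_apply]
    change res _ le_top (tm (one' L (s j)) (s j)) = _
    rw [TMul.res_tm, res_one']
  obtain ⟨R, u, hu⟩ := exists_span (A := k) (CurveRR.isCoh_of_inv hN)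
  have hhpow : ∀ j, Subsingleton (Coh.HH X (CohB1.tensorPow N (j + 1)) 1) := fun j => by
    induction j with
    | zero => exact CohQC.hh_subsingleton_of_iso (TMul.leftUnitIso N).symm 1 hhN
    | succ j ih => exact h1_tensor_of_generated k hv (TMul.isInvertible_tensorPow hN (j + 1)) hN q' hgenN ih
  -- products of sections of `N`
  have hprod : ∀ n : ℕ, 1 ≤ n → ∀ t : Γ(CohB1.tensorPow N (n + 1), ⊤),
      ∃ m : Fin (Fintype.card (Fin r × Fin r)) → Γ(CohB1.tensorPow N n, ⊤), t = ∑ i, tm (m i) (q' i) := by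
    intro n hn t
    rcases n with _ | _ | j
    · omega
    · -- the first multiplication
      obtain ⟨t', ht'⟩ := (ConcreteCategory.bijective_of_isIso ((toSq L (CohB1.tensorPow N 1)).app ⊤)).2 t
      obtain ⟨m, hm⟩ := exists_eq_sum k hv (N := CohB1.tensorPow N 1)
        (TMul.isInvertible_tensorPow hN 1) hL s hgen
        (CohQC.hh_subsingleton_of_iso (TMul.leftUnitIso N).symm 1 hhN) t'
      let φ : CohB1.tensorMod (CohB1.tensorPow N 1) L ≅ CohB1.tensorMod N L :=
        (DCoh.tensorRightMod L).mapIso (TMul.leftUnitIso N)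
      choose a ha using fun i => exists_eq_sum k hv (N := CohB1.tensorPow L 1) hL1 hL s hgen hh1
        (φ.hom.app ⊤ (m i))
      have hm' : ∀ i, m i = ∑ j, tm ((TMul.leftUnitIso N).inv.app ⊤ (a i j)) (s j) := fun i => by
        apply (ConcreteCategory.bijective_of_isIso (φ.hom.app ⊤)).1
        rw [ha i, map_sum]
        refine Finset.sum_congr rfl fun j _ => ?_
        refine Eq.symm ((W7Cech.map_tm (TMul.leftUnitIso N).hom L _ (s j)).trans ?_)
        refine congrArg (fun z => tm z (s j)) ?_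
        change ((TMul.leftUnitIso N).inv ≫ (TMul.leftUnitIso N).hom).app ⊤ (a i j) = _
        rw [Iso.inv_hom_id]
        rfl
      refine ⟨fun p => (TMul.leftUnitIso N).inv.app ⊤ (a (e.symm p).2 (e.symm p).1), ?_⟩
      rw [← ht', hm, map_sum]
      have h2 : ∀ i, (toSq L (CohB1.tensorPow N 1)).app ⊤ (tm (m i) (s i)) =
          ∑ j, tm ((TMul.leftUnitIso N).inv.app ⊤ (a i j)) (q (j, i)) := fun i => by
        rw [hm' i]
        let g : Γ(CohB1.tensorMod (CohB1.tensorPow N 1) L, ⊤) →+
            Γ(CohB1.tensorMod (CohB1.tensorMod (CohB1.tensorPow N 1) L) L, ⊤) :=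
          AddMonoidHom.mk' (fun z => tm z (s i)) fun z z' => TMul.tm_add z z' (s i)
        refine (congrArg ((toSq L (CohB1.tensorPow N 1)).app ⊤) (map_sum g _ Finset.univ)).trans
          ((map_sum _ _ _).trans (Finset.sum_congr rfl fun j _ => ?_))
        exact toSq_tm L _ _ (s j) (s i)
      rw [Finset.sum_congr rfl fun i _ => h2 i, Finset.sum_comm, ← Fintype.sum_prod_type']
      exact Fintype.sum_equiv e _ _ fun p => by simp only [q', Equiv.symm_apply_apply]
    · exact exists_eq_sum k hv (TMul.isInvertible_tensorPow hN (j + 1)) hN q' hgenN (hhpow j) t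
  refine isRelVeryAmplePn_of_span _ u hu (fun n hn t => ?_) (TMul.isAmple_tensorPow hA (by omega))
  obtain ⟨m, hm⟩ := hprod n hn t
  choose c hc using fun i => hu (q' i)
  refine ⟨fun l => ∑ i, (X ↘ Spec (CommRingCat.of k)).appTop.hom (c i l) • m i, ?_⟩
  rw [hm]
  have h3 : ∀ i, tm (m i) (q' i) = ∑ l, tm ((X ↘ Spec (CommRingCat.of k)).appTop.hom (c i l) • m i) (u l) :=
    fun i => by
      let g : Γ(N, ⊤) →+ Γ(CohB1.tensorMod (CohB1.tensorPow N n) N, ⊤) :=
        AddMonoidHom.mk' (fun z => tm (m i) z) fun z z' => TMul.add_tm (m i) z z'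
      refine (congrArg g (hc i)).trans ((map_sum g _ _).trans (Finset.sum_congr rfl fun l _ => ?_))
      exact (TMul.tm_smul _ _ _).trans (TMul.smul_tm _ _ _).symm
  rw [Finset.sum_congr rfl fun i _ => h3 i, Finset.sum_comm]
  refine Finset.sum_congr rfl fun l _ => ?_
  let g : Γ(CohB1.tensorPow N n, ⊤) →+ Γ(CohB1.tensorMod (CohB1.tensorPow N n) N, ⊤) :=
    AddMonoidHom.mk' (fun z => tm z (u l)) fun z z' => TMul.tm_add z z' (u l)
  exact (map_sum g _ _).symm

end Groth.Agent.NormGen
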