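import Groth.Agent.ProjMor.VAmpleApply
import Groth.Agent.TMul.AffineLocus
import Groth.Agent.CurveRR.GlobGen

/-!
An ample module whose powers have their sections spanned by products of sections is very ample.
-/

set_option autoImplicit false
set_option backward.isDefEq.respectTransparency false
set_option backward.isDefEq.respectTransparency.types false
set_option linter.style.haveILetI false
set_option linter.unusedSectionVars false

universe u

open CategoryTheory CategoryTheory.Limits AlgebraicGeometry TopologicalSpace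
open Groth.Agent.QC (res resO res_res res_smul res_self app_res)
open TMul (tm IsGen val homOf val_homOf)
open ProjMor (ev)

noncomputable section

namespace Groth.Agent.NormGen

variable {X : Scheme.{u}} {L : X.Modules}

/-- The powers of a section over an open. -/
def pg {W : X.Opens} (e : Γ(L, W)) : (n : ℕ) → Γ(CohB1.tensorPow L n, W)
  | 0 => (1 : Γ(X, W))
  | n + 1 => tm (pg e n) e

theorem pg_val (σ : Coh.structureModule X ⟶ L) (W : X.Opens) :
    ∀ n, pg (val σ W) n = SecTwist.pow σ n W
  | 0 => rfl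
  | n + 1 => congrArg (fun a => tm a (val σ W)) (pg_val σ W n)

theorem isGen_pg {W : X.Opens} {e : Γ(L, W)} (he : IsGen e) : ∀ n, IsGen (pg e n)
  | 0 => TMul.isGen_one W
  | n + 1 => TMul.isGen_tm (isGen_pg he n) he

variable {A : Type u} [CommRing A] (f : X ⟶ Spec (CommRingCat.of A)) {r : ℕ} (s : Fin r → Γ(L, ⊤))
  (hone : ∀ t : Γ(L, ⊤), ∃ a : Fin r → Γ(Spec (CommRingCat.of A), ⊤), t = ∑ j, f.appTop.hom (a j) • s j)
  (hmul : ∀ n : ℕ, 1 ≤ n → ∀ t : Γ(CohB1.tensorPow L (n + 1), ⊤),
    ∃ m : Fin r → Γ(CohB1.tensorPow L n, ⊤), t = ∑ j, tm (m j) (s j))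

include hone hmul in
/-- The coefficients of the sections of all powers lie in the subring generated by those of `s` and `A`,
and in the ideal generated by those of `s`. -/
theorem coeff_mem {W : X.Opens} (e : Γ(L, W)) (b : Fin r → Γ(X, W))
    (hb : ∀ j, res L le_top (s j) = b j • e) (C : Subring Γ(X, W)) (hbC : ∀ j, b j ∈ C)
    (hA : ∀ a, resO X (le_top : W ≤ ⊤) (f.appTop.hom a) ∈ C) :
    ∀ n, ∀ t : Γ(CohB1.tensorPow L (n + 1), ⊤), ∃ c, c ∈ C ∧ c ∈ Ideal.span (Set.range b) ∧
      res (CohB1.tensorPow L (n + 1)) le_top t = c • pg e (n + 1) := by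
  intro n
  induction n with
  | zero =>
    intro t
    let Φ : CohB1.tensorMod (Coh.structureModule X) L ≅ L := TMul.leftUnitIso L
    let l : Γ(L, ⊤) := Φ.hom.app ⊤ t
    obtain ⟨a, ha⟩ := hone l
    refine ⟨∑ j, resO X le_top (f.appTop.hom (a j)) * b j, sum_mem fun j _ => mul_mem (hA _) (hbC j),
      sum_mem fun j _ => Ideal.mul_mem_left _ _ (Ideal.subset_span ⟨j, rfl⟩), ?_⟩
    have h1 : res L le_top l = (∑ j, resO X (le_top : W ≤ ⊤) (f.appTop.hom (a j)) * b j) • e := by
      rw [ha, map_sum, Finset.sum_smul]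
      refine Finset.sum_congr rfl fun j _ => ?_
      rw [res_smul, hb j, smul_smul]
    apply (ConcreteCategory.bijective_of_isIso (Φ.hom.app W)).1
    refine (app_res Φ.hom le_top t).symm.trans (h1.trans ?_)
    refine Eq.trans ?_ (TMul.app_smul Φ.hom _ _).symm
    refine congrArg _ ?_
    exact ((CurveRR.leftUnitIso_tm L (1 : Γ(X, W)) e).trans (one_smul _ e)).symm
  | succ n ih =>
    intro t
    obtain ⟨m, hm⟩ := hmul (n + 1) (Nat.succ_pos n) t
    choose c hcC hcI hc using fun j => ih (m j)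
    refine ⟨∑ j, c j * b j, sum_mem fun j _ => mul_mem (hcC j) (hbC j),
      sum_mem fun j _ => Ideal.mul_mem_left _ _ (Ideal.subset_span ⟨j, rfl⟩), ?_⟩
    rw [hm, Finset.sum_smul]
    refine (map_sum _ _ _).trans (Finset.sum_congr rfl fun j _ => ?_)
    refine (TMul.res_tm (le_top : W ≤ ⊤) (m j) (s j)).trans ?_
    rw [hc j, hb j, TMul.smul_tm, TMul.tm_smul, smul_smul]
    rfl

include hone hmul in
/-- Very ampleness. -/
theorem isRelVeryAmplePn_of_span [IsProper f] (hL : CohB1.IsAmple L) :
    RelAmple.IsRelVeryAmplePn f L := by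
  classical
  haveI := hL.2.1
  haveI := TMul.isSeparated_of_isAmple hL
  have hgen : ∀ x : X, ∃ j, x ∈ CohB1.genLocus L (homOf (s j)) := fun x => by
    obtain ⟨n, t, hxt, -, -⟩ := TMul.exists_mem_le hL (U := ⊤) (x := x) trivial
    obtain ⟨U, e₀, hxU, he₀⟩ := TMul.exists_isGen hL.1 x
    let W := U ⊓ CohB1.genLocus _ t
    let e : Γ(L, W) := res L inf_le_left e₀
    have he : IsGen e := he₀.res inf_le_left
    have hxW : x ∈ W := ⟨hxU, hxt⟩
    choose b hb using fun j => (he W le_rfl).2 (res L le_top (s j))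
    simp only [res_self] at hb
    obtain ⟨c, -, hcI, hc⟩ := coeff_mem f s hone hmul e b (fun j => (hb j).symm) ⊤ (fun _ => trivial)
      (fun _ => trivial) n (val t ⊤)
    have hc' : val t W = c • pg e (n + 1) := (TMul.res_val t le_top).symm.trans hc
    have hu := (TMul.mem_genLocus_iff_isUnit t (isGen_pg he (n + 1)) hc' hxW).1 hxt
    by_contra hno
    push Not at hno
    have hle : Ideal.span (Set.range b) ≤ (IsLocalRing.maximalIdeal (X.presheaf.stalk x)).comap
        (X.presheaf.germ W x hxW).hom := by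
      rw [Ideal.span_le]
      rintro _ ⟨j, rfl⟩
      have hv : val (homOf (s j)) W = b j • e := (val_homOf _ _).trans (hb j).symm
      exact fun hunit => hno j ((TMul.mem_genLocus_iff_isUnit _ he hv hxW).2 hunit)
    exact hle hcI hu
  refine ProjMor.isRelVeryAmplePn_of_chartSections f hL.1 ⟨ULift.{u} (Fin r), inferInstance, fun j => s j.down,
    fun x => ?_⟩
  obtain ⟨i, hi⟩ := hgen x
  let U := CohB1.genLocus L (homOf (s i))
  refine ⟨⟨i⟩, ⊤, le_top.trans (by simp), hi, isAffineOpen_top _,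
    TMul.isAffineOpen_genLocus_of_universallyClosed f hL _, ?_⟩
  let C := Subring.closure (Set.range (ev f ⊤ U (le_top.trans (by simp))) ∪
    {c | ∃ k : ULift.{u} (Fin r), c • res L (le_top : U ≤ ⊤) (s i) = res L (le_top : U ≤ ⊤) (s k.down)})
  change C = ⊤
  refine eq_top_iff.2 fun c _ => ?_
  let σ := homOf (s i)
  let e : Γ(L, U) := val σ U
  have he : IsGen e := TMul.isGen_genLocus σ
  have hes : e = res L le_top (s i) := val_homOf _ _
  choose b hb using fun j => (he U le_rfl).2 (res L le_top (s j))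
  simp only [res_self] at hb
  have hbC : ∀ j, b j ∈ C := fun j => Subring.subset_closure (Or.inr ⟨⟨j⟩, by rw [← hes]; exact hb j⟩)
  have hA : ∀ a, resO X (le_top : U ≤ ⊤) (f.appTop.hom a) ∈ C := fun a => Subring.subset_closure
    (Or.inl ⟨a, by
      change (f.appLE ⊤ U _).hom a = (f.appTop ≫ X.presheaf.map (homOfLE le_top).op).hom a
      rfl⟩)
  haveI : (Coh.structureModule X).IsQuasicoherent := TMul.isQCoh_of_isInvertible TMul.isInvertible_structureModule
  obtain ⟨k, hk⟩ := TMul.exists_twist_extends_ge (F := Coh.structureModule X) hL.1 σ c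
  obtain ⟨t, ht⟩ := hk (k + 1) (Nat.le_succ k)
  let Φ : CohB1.tensorMod (Coh.structureModule X) (CohB1.tensorPow L (k + 1)) ≅ CohB1.tensorPow L (k + 1) :=
    TMul.leftUnitIso _
  obtain ⟨d, hdC, -, hd⟩ := coeff_mem f s hone hmul e b (fun j => (hb j).symm) C hbC hA k (Φ.hom.app ⊤ t)
  have h2 : res (CohB1.tensorPow L (k + 1)) (le_top : U ≤ ⊤) (Φ.hom.app ⊤ t) = c • pg e (k + 1) := by
    rw [app_res]
    refine (congrArg (Φ.hom.app U) ht).trans ?_
    rw [pg_val]
    exact CurveRR.leftUnitIso_tm _ c _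
  have h3 : d = c := ((isGen_pg he (k + 1)) U le_rfl).1 (by simp only [res_self]; exact hd.symm.trans h2)
  exact h3 ▸ hdC

end Groth.Agent.NormGen
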